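import Groth.Agent.Etdl.H440.Iface
import Groth.Agent.Sga4h.H556.Exc

/-!
# Étale excision for `Ext` groups out of `ℤ[T] / ℤ[O]`

`q : W ⟶ P` étale, `O ⟶ T` open, `{O, q⁻¹ T}` an elementary excision square over `T`: for all `E` on `P` the map
`Ext^N(ℤ[T]/ℤ[O], E) → Ext^N(q⁻¹(ℤ[T]/ℤ[O]), q⁻¹ E)` is bijective.
-/

set_option autoImplicit false
universe u
open CategoryTheory CategoryTheory.Limits AlgebraicGeometry Opposite Abelian
open Groth.Agent.Sga4B.DualShape Groth.Agent.Sga4B.EUConst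
open Groth.Agent.EtpbcB.BCCalc
open scoped Groth.Agent.Etcore.EtInst
open Groth.Agent.Etcore.EtInst
open Groth.Agent.Etdl.H440.CF

namespace Groth.Agent.Etdl.H535.Exc

open Groth.Agent.Sga4h.H556.Exc (adjw rw' rw'_bijective rw'_res rw'_eta bijective_cmp)

noncomputable section

variable {W P : Scheme.{u}} (q : W ⟶ P) [Etale q]

/-- The morphism `q_! q⁻¹ T ⟶ T`. -/
abbrev ct (T : P.Etale) : (EtShriek.compEtale q).obj ((EtCoh.bc q).obj T) ⟶ T :=
  (Groth.Agent.Sga4h.EtaleRes.compBcAdj q).counit.app T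

/-- Lifting to `q_! q⁻¹ O`. -/
theorem exists_lift {O T : P.Etale} (o : O ⟶ T) {U : P.Etale}
    (a : U ⟶ (EtShriek.compEtale q).obj ((EtCoh.bc q).obj T)) (b : U ⟶ O)
    (h : a ≫ ct q T = b ≫ o) :
    ∃ c : U ⟶ (EtShriek.compEtale q).obj ((EtCoh.bc q).obj O),
      c ≫ (EtShriek.compEtale q).map ((EtCoh.bc q).map o) = a := by
  have h' : a.left ≫ pr q T = b.left ≫ o.left := congrArg (fun k => k.left) h
  have e1 : b.left ≫ O.hom = (a.left ≫ ((EtCoh.bc q).obj T).hom) ≫ q := by
    have e2 : b.left ≫ O.hom = U.hom := left_hom b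
    have e3 : a.left ≫ (((EtCoh.bc q).obj T).hom ≫ q) = U.hom := left_hom a
    rw [e2, Category.assoc]
    exact e3.symm
  let k : U.left ⟶ ((EtCoh.bc q).obj O).left :=
    (isPullback_pr q O).lift b.left (a.left ≫ ((EtCoh.bc q).obj T).hom) e1
  have k1 : k ≫ pr q O = b.left := (isPullback_pr q O).lift_fst _ _ _
  have k2 : k ≫ ((EtCoh.bc q).obj O).hom = a.left ≫ ((EtCoh.bc q).obj T).hom :=
    (isPullback_pr q O).lift_snd _ _ _
  have k3 : k ≫ (((EtCoh.bc q).obj O).hom ≫ q) = U.hom := by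
    rw [← Category.assoc, k2, Category.assoc]
    exact left_hom a
  refine ⟨MorphismProperty.Over.homMk k k3 trivial, ?_⟩
  apply MorphismProperty.Over.Hom.ext
  apply (isPullback_pr q T).hom_ext
  · calc (k ≫ ((EtCoh.bc q).map o).left) ≫ pr q T
        = k ≫ ((EtCoh.bc q).map o).left ≫ pr q T := Category.assoc _ _ _
      _ = k ≫ pr q O ≫ o.left := congrArg (k ≫ ·) (bc_map_left_pr q o)
      _ = (k ≫ pr q O) ≫ o.left := (Category.assoc _ _ _).symm
      _ = b.left ≫ o.left := congrArg (· ≫ o.left) k1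
      _ = a.left ≫ pr q T := h'.symm
  · calc (k ≫ ((EtCoh.bc q).map o).left) ≫ ((EtCoh.bc q).obj T).hom
        = k ≫ ((EtCoh.bc q).map o).left ≫ ((EtCoh.bc q).obj T).hom := Category.assoc _ _ _
      _ = k ≫ ((EtCoh.bc q).obj O).hom := congrArg (k ≫ ·) (left_hom ((EtCoh.bc q).map o))
      _ = a.left ≫ ((EtCoh.bc q).obj T).hom := k2

/-- Lifting to an open part. -/
theorem exists_open_lift {O T : P.Etale} (o : O ⟶ T) [IsOpenImmersion o.left] {U : P.Etale}
    (a : U ⟶ T) (h : ∀ y, a.left y ∈ Set.range o.left) : ∃ b : U ⟶ O, b ≫ o = a := by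
  have hr : Set.range a.left ⊆ Set.range o.left := by
    rintro _ ⟨y, rfl⟩
    exact h y
  refine ⟨MorphismProperty.Over.homMk (IsOpenImmersion.lift o.left a.left hr) ?_ trivial, ?_⟩
  · have h1 : o.left ≫ T.hom = O.hom := left_hom o
    have h2 : a.left ≫ T.hom = U.hom := left_hom a
    rw [← h1, IsOpenImmersion.lift_fac_assoc, h2]
  · apply MorphismProperty.Over.Hom.ext
    exact IsOpenImmersion.lift_fac _ _ _

variable {O T : P.Etale} (o : O ⟶ T)

/-- The morphism `F(T) → (q⁻¹ F)(q⁻¹ T) ≃ F(q_! q⁻¹ T)` is restriction. -/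
theorem rw_unit (F : EtCoh.Ab P) (s : EtCoh.sect F T) :
    haveI := Groth.Agent.Sga4h.EtaleRes.jCont q
    rw' q F ((EtCoh.bc q).obj T) (((EtCoh.pullPushAdj q).unit.app F).hom.app (op T) s) =
      F.obj.map (ct q T).op s := by
  have := Groth.Agent.Sga4h.EtaleRes.jCont q
  exact rw'_eta q F T s

/-- A section over `q_! q⁻¹ T` vanishing on `q_! q⁻¹ O` vanishes on everything mapping to `O`. -/
theorem res_eq_zero (F : EtCoh.Ab P)
    (s : EtCoh.sect F ((EtShriek.compEtale q).obj ((EtCoh.bc q).obj T)))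
    (hs : F.obj.map ((EtShriek.compEtale q).map ((EtCoh.bc q).map o)).op s = 0) {U : P.Etale}
    (a : U ⟶ (EtShriek.compEtale q).obj ((EtCoh.bc q).obj T)) (b : U ⟶ O)
    (h : a ≫ ct q T = b ≫ o) : F.obj.map a.op s = 0 := by
  obtain ⟨c, rfl⟩ := exists_lift q o a b h
  rw [← map_map, hs, map_zero]

variable [IsOpenImmersion o.left]
  (hc : ∀ z : T.left, z ∈ Set.range o.left ∨ z ∈ Set.range (ct q T).left)
  (hl : ∀ (U : P.Etale) (a b : U ⟶ (EtShriek.compEtale q).obj ((EtCoh.bc q).obj T)),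
    a ≫ ct q T = b ≫ ct q T → ∀ z : U.left, ∃ (V : P.Etale) (g : V ⟶ U), z ∈ Set.range g.left ∧
      (g ≫ a = g ≫ b ∨ ∀ y, (g ≫ a ≫ ct q T).left y ∈ Set.range o.left))

include hc in
theorem section_ext (F : EtCoh.Ab P) {s t : EtCoh.sect F T}
    (h1 : F.obj.map (ct q T).op s = F.obj.map (ct q T).op t)
    (h2 : F.obj.map o.op s = F.obj.map o.op t) : s = t := by
  refine ext_of_pair F (ct q T) o ?_ h1 h2
  ext z
  simp only [Set.mem_union, Set.mem_univ, iff_true]
  exact (hc z).symm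

include hc hl in
theorem section_glue (F : EtCoh.Ab P)
    (s : EtCoh.sect F ((EtShriek.compEtale q).obj ((EtCoh.bc q).obj T)))
    (hs : F.obj.map ((EtShriek.compEtale q).map ((EtCoh.bc q).map o)).op s = 0) :
    ∃ t : EtCoh.sect F T, F.obj.map (ct q T).op t = s ∧ F.obj.map o.op t = 0 := by
  have hm : Mono o := by
    constructor
    intro Z a b hab
    apply MorphismProperty.Over.Hom.ext
    have h1 : a.left ≫ o.left = b.left ≫ o.left := congrArg (fun k => k.left) hab
    exact (cancel_mono o.left).1 h1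
  refine (existsUnique_glue_pair F (ct q T) o ?_ s 0 ?_ ?_).exists
  · ext z
    simp only [Set.mem_union, Set.mem_univ, iff_true]
    exact (hc z).symm
  · intro U a b hab
    refine ext_locally _ fun z => ?_
    obtain ⟨V, g, hz, hg⟩ := hl U a b hab z
    refine ⟨V, g, hz, ?_⟩
    rw [map_map, map_map]
    rcases hg with hg | hg
    · rw [hg]
    · obtain ⟨b', hb'⟩ := exists_open_lift o (g ≫ a ≫ ct q T) hg
      rw [res_eq_zero q o F s hs (g ≫ a) b' (by rw [hb', Category.assoc]),
        res_eq_zero q o F s hs (g ≫ b) b' (by rw [hb', Category.assoc, hab])]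
  · intro U a b hab
    rw [map_zero]
    exact res_eq_zero q o F s hs a b hab

include hc hl in
/-- Degree zero. -/
theorem bijective_hom (F : EtCoh.Ab P) :
    Function.Bijective (fun φ : ZQ o ⟶ F => (EtCoh.pull q).map φ) := by
  have := Groth.Agent.Sga4h.EtaleRes.jCont q
  have key : ∀ φ : ZQ o ⟶ F, (EtCoh.pullPushAdj q).homEquiv _ _ ((EtCoh.pull q).map φ) =
      φ ≫ (EtCoh.pullPushAdj q).unit.app F := by
    intro φ
    rw [Adjunction.homEquiv_unit]
    exact ((EtCoh.pullPushAdj q).unit.naturality φ).symm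
  have hsec : ∀ φ : ZQ o ⟶ F,
      rw' q F ((EtCoh.bc q).obj T)
        (((EtCoh.pullPushAdj q).homEquiv _ _ ((EtCoh.pull q).map φ)).hom.app (op T) (qs o)) =
      F.obj.map (ct q T).op (φ.hom.app (op T) (qs o)) := by
    intro φ
    rw [key]
    exact rw_unit q F _
  constructor
  · intro φ ψ h
    apply ZQ_hom_ext
    refine section_ext q o hc F ?_ ?_
    · rw [← hsec, ← hsec]
      exact congrArg (fun k => rw' q F ((EtCoh.bc q).obj T)
        (((EtCoh.pullPushAdj q).homEquiv _ _ k).hom.app (op T) (qs o))) h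
    · have h1 : ∀ φ : ZQ o ⟶ F, F.obj.map o.op (φ.hom.app (op T) (qs o)) = 0 := by
        intro φ
        have h2 := ConcreteCategory.congr_hom (φ.hom.naturality o.op) (qs o)
        refine h2.symm.trans ?_
        refine (congrArg (φ.hom.app (op O)) (qs_res o)).trans ?_
        exact map_zero (φ.hom.app (op O)).hom
      rw [h1, h1]
  · intro ψ
    let ψ' : ZQ o ⟶ (EtCoh.push q).obj ((EtCoh.pull q).obj F) :=
      (EtCoh.pullPushAdj q).homEquiv _ _ ψ
    let t' : EtCoh.sect ((EtCoh.pull q).obj F) ((EtCoh.bc q).obj T) := ψ'.hom.app (op T) (qs o)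
    have ht' : ((EtCoh.pull q).obj F).obj.map ((EtCoh.bc q).map o).op t' = 0 := by
      have h2 := ConcreteCategory.congr_hom (ψ'.hom.naturality o.op) (qs o)
      refine h2.symm.trans ?_
      refine (congrArg (ψ'.hom.app (op O)) (qs_res o)).trans ?_
      exact map_zero (ψ'.hom.app (op O)).hom
    obtain ⟨t, ht1, ht2⟩ := section_glue q o hc hl F (rw' q F ((EtCoh.bc q).obj T) t') (by
      have h3 := rw'_res q F ((EtCoh.bc q).map o) t'
      rw [ht', map_zero] at h3
      exact h3.symm)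
    refine ⟨qHom o t ht2, ?_⟩
    apply ((EtCoh.pullPushAdj q).homEquiv _ _).injective
    apply ZQ_hom_ext
    apply (rw'_bijective q F ((EtCoh.bc q).obj T)).1
    refine (hsec _).trans ?_
    rw [qHom_qs, ht1]

include hc hl in
/-- **Étale excision**, all degrees. -/
theorem bijective_ext (E : EtCoh.Ab P) (N : ℕ) :
    Function.Bijective (fun u : Ext.{u + 1} (ZQ o) E N =>
      (u.mapExactFunctor (EtCoh.pull q) :
        Ext.{u + 1} ((EtCoh.pull q).obj (ZQ o)) ((EtCoh.pull q).obj E) N)) := by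
  have := Groth.Agent.Sga4h.EtaleRes.jCont q
  have hcl : PreservesFiniteColimits (EtShriek.extZero q) := by
    have : PreservesColimitsOfSize.{0, 0} (EtShriek.extZero q) :=
      (EtShriek.extZeroAdj q).leftAdjoint_preservesColimits
    exact PreservesColimitsOfSize.preservesFiniteColimits _
  have hadd : (EtShriek.extZero q).Additive := (adjw q).left_adjoint_additive
  have h := bijective_cmp (adjw q) (𝟙 ((EtCoh.pull q).obj (ZQ o))) (fun F => by
    have h1 := bijective_hom q o hc hl F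
    convert h1 using 1
    funext φ
    exact Category.id_comp _) E N
  convert h using 1
  funext x
  exact (Ext.mk₀_id_comp _).symm

end

/-- **(E)** of route C. -/
theorem stmtExc : Groth.Agent.Etdl.H440.Iface.StmtExc.{u} := by
  intro W P q _ O T o _ ρ hρ hc hl E N
  have h : ρ = ct q T := by
    apply MorphismProperty.Over.Hom.ext
    exact hρ
  subst h
  exact bijective_ext q o hc hl E N

end Groth.Agent.Etdl.H535.Exc
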